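import Cfsg.Agent.H686.Odd.McLFive
import Cfsg.Agent.TypeM.FactsMcL
import Mathlib.GroupTheory.Perm.Centralizer
import Cfsg.Agent.H686.Odd.McLMain
import Cfsg.Agent.FastGrp
import Cfsg.Agent.Prune
set_option linter.all false
prune_inst 0x7f00000000000000000000000000000000000000000000000000000000000000000000000000000000000000000000000000000000000000000000000000000000000000000000000000000000000000003fffffffffffffffffffffffffffbeffbdffffffff
open scoped Cfsg.Agent.FastGrp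

-- part: H729/TI/McLRel
section
/-!
# S4820, `p = 3`, `McL`: relations in the model on 275 points (helper729)

* relations of the words `h14`, `q13`, `r12`;
* `conj_a` : the noncentral elements of the Sylow 5-subgroup `⟨a, b⟩` are conjugate.
-/

set_option autoImplicit false
set_option maxRecDepth 100000

namespace Cfsg.Agent.H729.TI

open Subgroup Equiv Cfsg.Agent.SporadicA.PermTab Cfsg.Agent.H904.McLCent Cfsg.Agent.McLType.X275
  Cfsg.Agent.McLType.Gens Cfsg.Agent.McLType.Model Cfsg.Agent.H58.McLOdd Cfsg.Agent.H686.Odd.McL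
open scoped commutatorElement

def h14 : List ℕ := [6, 5, 0, 6, 3, 5, 4, 6, 5, 4, 6, 4, 3, 0]
def q13 : List ℕ := [3, 4, 6, 3, 4, 5, 6, 5, 3, 4, 3, 0, 1]
def r12 : List ℕ := [3, 4, 1, 2, 3, 6, 5, 3, 4, 5, 0, 6]

theorem cH : (_root_.Cfsg.Agent.H58.McLOdd.chk (cj h14 s6) (iv s6) && _root_.Cfsg.Agent.H58.McLOdd.chk (cj h14 (cm x5 y5)) (pw (cm x5 y5) 2)) = true := by
  rewrite [_root_.Cfsg.Agent.H58.McLOdd.chk_base5]; decide +kernel

theorem cQ : (_root_.Cfsg.Agent.H58.McLOdd.chk (q13 ++ s6) (s6 ++ q13) && _root_.Cfsg.Agent.H58.McLOdd.chk (q13 ++ q13) (pw s6 3)) = true := by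
  rewrite [_root_.Cfsg.Agent.H58.McLOdd.chk_base5]; decide +kernel

theorem cR : (_root_.Cfsg.Agent.H58.McLOdd.chk (r12 ++ s6) (s6 ++ r12) && _root_.Cfsg.Agent.H58.McLOdd.chk (cj r12 q13) (iv q13)) = true := by
  rewrite [_root_.Cfsg.Agent.H58.McLOdd.chk_base5]; decide +kernel

theorem hs : wd h14 * s * (wd h14)⁻¹ = s⁻¹ := by
  have h := cH
  simp only [Bool.and_eq_true] at h
  rw [s, ← wd_cj, ← wd_iv]; exact eq_of_chk h.1

theorem hc : wd h14 * c * (wd h14)⁻¹ = c ^ 2 := by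
  have h := cH
  simp only [Bool.and_eq_true] at h
  rw [c_eq, ← wd_cj, ← wd_pw]; exact eq_of_chk h.2

theorem qs : wd q13 * s = s * wd q13 := by
  have h := cQ
  simp only [Bool.and_eq_true] at h
  rw [s, ← wd_app, ← wd_app]; exact eq_of_chk h.1

theorem qq : wd q13 * wd q13 = s ^ 3 := by
  have h := cQ
  simp only [Bool.and_eq_true] at h
  rw [s, ← wd_app, ← wd_pw]; exact eq_of_chk h.2

theorem rs : wd r12 * s = s * wd r12 := by
  have h := cR
  simp only [Bool.and_eq_true] at h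
  rw [s, ← wd_app, ← wd_app]; exact eq_of_chk h.1

theorem rq : wd r12 * wd q13 * (wd r12)⁻¹ = (wd q13)⁻¹ := by
  have h := cR
  simp only [Bool.and_eq_true] at h
  rw [← wd_cj, ← wd_iv]; exact eq_of_chk h.2

/-- words conjugating `a` to `a ^ i * b ^ j` -/
def cjl : List (ℕ × ℕ × List ℕ) :=
  [(0, 1, [0, 3, 6, 2, 0, 5, 6, 2, 5, 3, 0, 1, 6, 1, 3, 6, 5, 4, 2, 0, 5, 3, 6, 5, 0, 6, 5, 2, 6, 4, 5, 3, 6, 3, 5, 0, 6, 5, 2, 6, 4, 5, 3, 6, 3]),
   (0, 2, [0, 3, 5, 2, 6, 5, 0, 2, 6, 3, 0, 6, 3, 5, 0, 2, 4, 5, 6, 3, 1, 6, 1, 5, 0, 6, 5, 2, 6, 4, 5, 3, 6, 3, 5, 0, 6, 5, 2, 6, 4, 5, 3, 6, 3]),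
   (0, 3, [0, 3, 5, 2, 6, 5, 0, 2, 6, 3, 0, 0, 3, 5, 2, 6, 5, 0, 2, 6, 3, 0, 6, 3, 5, 0, 2, 4, 5, 6, 3, 1, 6, 1, 3, 6, 3, 5, 4, 6, 2, 5, 6, 0, 5]),
   (0, 4, [0, 3, 5, 2, 6, 5, 0, 2, 6, 3, 0, 0, 3, 5, 2, 6, 5, 0, 2, 6, 3, 0, 1, 6, 1, 3, 6, 5, 4, 2, 0, 5, 3, 6, 3, 6, 3, 5, 4, 6, 2, 5, 6, 0, 5]),
   (1, 0, []),
   (1, 1, [0, 3, 5, 2, 6, 5, 0, 2, 6, 3, 0, 0, 3, 5, 2, 6, 5, 0, 2, 6, 3, 0, 3, 6, 3, 5, 4, 6, 2, 5, 6, 0, 5, 3, 6, 3, 5, 4, 6, 2, 5, 6, 0, 5]),
   (1, 2, [0, 3, 6, 2, 0, 5, 6, 2, 5, 3, 0, 6, 3, 5, 0, 2, 4, 5, 6, 3, 1, 6, 1]),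
   (1, 3, [0, 3, 6, 2, 0, 5, 6, 2, 5, 3, 0, 1, 6, 1, 3, 6, 5, 4, 2, 0, 5, 3, 6, 1, 6, 1, 3, 6, 5, 4, 2, 0, 5, 3, 6, 3, 6, 3, 5, 4, 6, 2, 5, 6, 0, 5]),
   (1, 4, [6, 3, 5, 0, 2, 4, 5, 6, 3, 1, 6, 1, 5, 0, 6, 5, 2, 6, 4, 5, 3, 6, 3]),
   (2, 0, [6, 3, 5, 0, 2, 4, 5, 6, 3, 1, 6, 1, 6, 3, 5, 0, 2, 4, 5, 6, 3, 1, 6, 1]),
   (2, 1, [0, 3, 5, 2, 6, 5, 0, 2, 6, 3, 0, 3, 6, 3, 5, 4, 6, 2, 5, 6, 0, 5]),
   (2, 2, [0, 3, 5, 2, 6, 5, 0, 2, 6, 3, 0, 0, 3, 5, 2, 6, 5, 0, 2, 6, 3, 0, 1, 6, 1, 3, 6, 5, 4, 2, 0, 5, 3, 6, 1, 6, 1, 3, 6, 5, 4, 2, 0, 5, 3, 6, 5, 0, 6, 5, 2, 6, 4, 5, 3, 6, 3]),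
   (2, 3, [0, 3, 6, 2, 0, 5, 6, 2, 5, 3, 0, 0, 3, 6, 2, 0, 5, 6, 2, 5, 3, 0, 1, 6, 1, 3, 6, 5, 4, 2, 0, 5, 3, 6, 3, 6, 3, 5, 4, 6, 2, 5, 6, 0, 5, 3, 6, 3, 5, 4, 6, 2, 5, 6, 0, 5]),
   (2, 4, [0, 3, 5, 2, 6, 5, 0, 2, 6, 3, 0, 6, 3, 5, 0, 2, 4, 5, 6, 3, 1, 6, 1, 6, 3, 5, 0, 2, 4, 5, 6, 3, 1, 6, 1, 6, 3, 5, 0, 2, 4, 5, 6, 3, 1, 6, 1]),
   (3, 0, [1, 6, 1, 3, 6, 5, 4, 2, 0, 5, 3, 6, 1, 6, 1, 3, 6, 5, 4, 2, 0, 5, 3, 6]),
   (3, 1, [4, 5, 2, 6, 5, 6, 3, 0, 6, 3, 4, 5, 6, 2, 1, 0, 1, 6, 1, 3, 6, 5, 4, 2, 0, 5, 3, 6]),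
   (3, 2, [0, 3, 5, 2, 6, 5, 0, 2, 6, 3, 0, 1, 6, 1, 3, 6, 5, 4, 2, 0, 5, 3, 6, 5, 0, 6, 5, 2, 6, 4, 5, 3, 6, 3]),
   (3, 3, [0, 3, 5, 2, 6, 5, 0, 2, 6, 3, 0, 0, 3, 5, 2, 6, 5, 0, 2, 6, 3, 0, 6, 3, 5, 0, 2, 4, 5, 6, 3, 1, 6, 1, 6, 3, 5, 0, 2, 4, 5, 6, 3, 1, 6, 1, 5, 0, 6, 5, 2, 6, 4, 5, 3, 6, 3]),
   (3, 4, [4, 5, 2, 6, 5, 6, 3, 0, 6, 3, 4, 5, 6, 2, 1, 0, 5, 0, 6, 5, 2, 6, 4, 5, 3, 6, 3, 5, 0, 6, 5, 2, 6, 4, 5, 3, 6, 3]),
   (4, 0, [0, 1, 2, 6, 5, 4, 3, 6, 0, 3, 6, 5, 6, 2, 5, 4, 3, 6, 3, 5, 4, 6, 2, 5, 6, 0, 5, 3, 6, 3, 5, 4, 6, 2, 5, 6, 0, 5, 3, 6, 3, 5, 4, 6, 2, 5, 6, 0, 5]),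
   (4, 1, [0, 3, 6, 2, 0, 5, 6, 2, 5, 3, 0, 6, 3, 5, 0, 2, 4, 5, 6, 3, 1, 6, 1, 3, 6, 3, 5, 4, 6, 2, 5, 6, 0, 5, 3, 6, 3, 5, 4, 6, 2, 5, 6, 0, 5]),
   (4, 2, [6, 3, 5, 0, 2, 4, 5, 6, 3, 1, 6, 1, 6, 3, 5, 0, 2, 4, 5, 6, 3, 1, 6, 1, 3, 6, 3, 5, 4, 6, 2, 5, 6, 0, 5]),
   (4, 3, [1, 6, 1, 3, 6, 5, 4, 2, 0, 5, 3, 6, 1, 6, 1, 3, 6, 5, 4, 2, 0, 5, 3, 6, 1, 6, 1, 3, 6, 5, 4, 2, 0, 5, 3, 6]),
   (4, 4, [0, 3, 5, 2, 6, 5, 0, 2, 6, 3, 0, 0, 3, 5, 2, 6, 5, 0, 2, 6, 3, 0, 5, 0, 6, 5, 2, 6, 4, 5, 3, 6, 3])]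

theorem cjl_chk_a : ∀ t ∈ cjl.take 6, _root_.Cfsg.Agent.H58.McLOdd.chk (cj t.2.2 x5) (pw x5 t.1 ++ pw y5 t.2.1) = true := by
  rewrite [_root_.Cfsg.Agent.H58.McLOdd.chk_base5]; decide +kernel

theorem cjl_chk_b : ∀ t ∈ (cjl.drop 6).take 6,
    _root_.Cfsg.Agent.H58.McLOdd.chk (cj t.2.2 x5) (pw x5 t.1 ++ pw y5 t.2.1) = true := by
  rewrite [_root_.Cfsg.Agent.H58.McLOdd.chk_base5]; decide +kernel

theorem cjl_chk_c : ∀ t ∈ ((cjl.drop 6).drop 6).take 6,
    _root_.Cfsg.Agent.H58.McLOdd.chk (cj t.2.2 x5) (pw x5 t.1 ++ pw y5 t.2.1) = true := by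
  rewrite [_root_.Cfsg.Agent.H58.McLOdd.chk_base5]; decide +kernel

theorem cjl_chk_d : ∀ t ∈ ((cjl.drop 6).drop 6).drop 6,
    _root_.Cfsg.Agent.H58.McLOdd.chk (cj t.2.2 x5) (pw x5 t.1 ++ pw y5 t.2.1) = true := by
  rewrite [_root_.Cfsg.Agent.H58.McLOdd.chk_base5]; decide +kernel

theorem cjl_chk : ∀ t ∈ cjl, _root_.Cfsg.Agent.H58.McLOdd.chk (cj t.2.2 x5) (pw x5 t.1 ++ pw y5 t.2.1) = true := by
  intro t ht
  rw [← List.take_append_drop 6 cjl, List.mem_append] at ht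
  rcases ht with ht | ht
  · exact cjl_chk_a t ht
  rw [← List.take_append_drop 6 (cjl.drop 6), List.mem_append] at ht
  rcases ht with ht | ht
  · exact cjl_chk_b t ht
  rw [← List.take_append_drop 6 ((cjl.drop 6).drop 6), List.mem_append] at ht
  rcases ht with ht | ht
  · exact cjl_chk_c t ht
  · exact cjl_chk_d t ht

theorem cjl_mem : ∀ i j : Fin 5, (i = 0 ∧ j = 0) ∨ ∃ t ∈ cjl, t.1 = i ∧ t.2.1 = j := by
  decide +kernel

theorem conj_ab {i j : ℕ} (hi : i < 5) (hj : j < 5) (h : ¬ (i = 0 ∧ j = 0)) : IsConj a (a ^ i * b ^ j) := by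
  rcases cjl_mem ⟨i, hi⟩ ⟨j, hj⟩ with h1 | ⟨t, ht, h1, h2⟩
  · exact absurd ⟨congrArg Fin.val h1.1, congrArg Fin.val h1.2⟩ h
  · have h3 := eq_of_chk (cjl_chk t ht)
    rw [wd_cj, wd_app, wd_pw, wd_pw] at h3
    simp only at h1 h2
    rw [h1, h2] at h3
    exact isConj_iff.2 ⟨wd t.2.2, h3⟩

/-- `a ^ i b ^ j` and `a ^ i b ^ j c ^ k` are conjugate -/
theorem conj_abc {i j : ℤ} (k : ℤ) (h : ¬ ((5 : ℤ) ∣ i ∧ (5 : ℤ) ∣ j)) :
    IsConj (a ^ i * b ^ j) (a ^ i * (b ^ j * c ^ k)) := by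
  rw [isConj_iff]
  by_cases hj : (5 : ℤ) ∣ j
  · have hi : ¬ (5 : ℤ) ∣ i := fun hi => h ⟨hi, hj⟩
    obtain ⟨u, v, huv⟩ : IsCoprime i 5 := by
      rw [Int.isCoprime_iff_gcd_eq_one, Int.gcd_comm]
      exact (Int.prime_iff_natAbs_prime.2 (by norm_num) : Prime (5 : ℤ)).coprime_iff_not_dvd.2 hi |> Int.isCoprime_iff_gcd_eq_one.1
    refine ⟨b ^ (-k * u), ?_⟩
    have h1 : b ^ (-k * u) * a ^ i = a ^ i * (b ^ (-k * u) * c ^ (-(i * (-k * u)))) := ba i (-k * u)
    have h2 : c ^ (-(i * (-k * u))) = c ^ k := by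
      rw [show -(i * (-k * u)) = k + 5 * (-k * v) by linear_combination k * huv, zpow_add, zpow_mul,
        show c ^ (5 : ℤ) = 1 from by exact_mod_cast c_pow, one_zpow, mul_one]
    have e1 : c ^ k * b ^ j = b ^ j * c ^ k := ((show Commute c b from cb).zpow_zpow _ _).eq
    have e2 : c ^ k * (b ^ (-k * u))⁻¹ = (b ^ (-k * u))⁻¹ * c ^ k := by
      rw [← zpow_neg]; exact ((show Commute c b from cb).zpow_zpow _ _).eq
    calc b ^ (-k * u) * (a ^ i * b ^ j) * (b ^ (-k * u))⁻¹ = (b ^ (-k * u) * a ^ i) * b ^ j * (b ^ (-k * u))⁻¹ := by group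
      _ = a ^ i * b ^ (-k * u) * (c ^ k * b ^ j) * (b ^ (-k * u))⁻¹ := by rw [h1, h2]; group
      _ = a ^ i * b ^ (-k * u) * b ^ j * (c ^ k * (b ^ (-k * u))⁻¹) := by rw [e1]; group
      _ = _ := by rw [e2]; group
  · obtain ⟨u, v, huv⟩ : IsCoprime j 5 := by
      rw [Int.isCoprime_iff_gcd_eq_one, Int.gcd_comm]
      exact (Int.prime_iff_natAbs_prime.2 (by norm_num) : Prime (5 : ℤ)).coprime_iff_not_dvd.2 hj |> Int.isCoprime_iff_gcd_eq_one.1
    refine ⟨a ^ (k * u), ?_⟩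
    have h1 := ba (k * u) j
    have h2 : c ^ (-(k * u * j)) = c ^ (-k) := by
      rw [show -(k * u * j) = -k + 5 * (k * v) by linear_combination (-k) * huv, zpow_add, zpow_mul,
        show c ^ (5 : ℤ) = 1 from by exact_mod_cast c_pow, one_zpow, mul_one]
    rw [h2] at h1
    have h3 : a ^ (k * u) * b ^ j = b ^ j * a ^ (k * u) * c ^ k := by
      rw [h1]
      have e1 : c ^ (-k) * c ^ k = 1 := by rw [← zpow_add]; simp
      calc a ^ (k * u) * b ^ j = a ^ (k * u) * (b ^ j * (c ^ (-k) * c ^ k)) := by rw [e1, mul_one]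
        _ = _ := by group
    have e2 : c ^ k * (a ^ (k * u))⁻¹ = (a ^ (k * u))⁻¹ * c ^ k := by
      rw [← zpow_neg]; exact ((show Commute c a from ca).zpow_zpow _ _).eq
    calc a ^ (k * u) * (a ^ i * b ^ j) * (a ^ (k * u))⁻¹ = a ^ i * (a ^ (k * u) * b ^ j) * (a ^ (k * u))⁻¹ := by group
      _ = a ^ i * b ^ j * a ^ (k * u) * (c ^ k * (a ^ (k * u))⁻¹) := by rw [h3]; group
      _ = _ := by rw [e2]; group

seal _root_.Equiv.trans in
/-- the noncentral elements of the Sylow `5`-subgroup are conjugate (`n`, `s` act transitively on `P/Z(P)`) -/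
theorem conj_a {g : G1} (hg : g ∈ _root_.Subgroup.closure ({a, b} : Set G1)) (hg' : g ∉ zpowers c) : IsConj a g := by
  obtain ⟨i, j, k, rfl⟩ := exists_abc hg
  have h : ¬ ((5 : ℤ) ∣ i ∧ (5 : ℤ) ∣ j) := by
    rintro ⟨⟨u, rfl⟩, ⟨v, rfl⟩⟩
    apply hg'
    rw [zpow_mul, zpow_mul, show a ^ (5 : ℤ) = 1 from by exact_mod_cast a_pow,
      show b ^ (5 : ℤ) = 1 from by exact_mod_cast b_pow, one_zpow, one_zpow, one_mul, one_mul]
    exact zpow_mem (mem_zpowers c) k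
  refine IsConj.trans ?_ (conj_abc k h)
  rw [zpow_mod5 a_pow i, zpow_mod5 b_pow j]
  exact conj_ab (by omega) (by omega) (by omega)

end Cfsg.Agent.H729.TI
end

-- part: H699/TI/McLTwo
section
/-!
# McL: the centralizers of elements with even order (S4819, S4820, [3MCL-A])

`C(t) = 2.A_8`; for `y ∈ C(t)` of odd order `|C(t y)| = 2 |C_{A_8}(π y)|`.
-/

set_option autoImplicit false

universe u

namespace Cfsg.Agent.H699.TI

open Subgroup Cfsg Equiv
open Cfsg.Agent.TypeM.Two Cfsg.Agent.SporRec.TwoAn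

theorem card_cent_alt {σ : Perm (Fin 8)} (hσ : σ.cycleType.sum ≤ 6) :
    2 * Nat.card ↥(centralizer ({σ} : Set (Perm (Fin 8))) ⊓ alternatingGroup (Fin 8)) =
      Nat.card (centralizer ({σ} : Set (Perm (Fin 8)))) := by
  obtain ⟨a, b, hab, ha, hb⟩ : ∃ a b : Fin 8, a ≠ b ∧ σ a = a ∧ σ b = b := by
    have h1 : 1 < (σ.supportᶜ).card := by
      rw [Finset.card_compl, Fintype.card_fin, ← σ.sum_cycleType]; omega
    obtain ⟨a, ha, b, hb, hab⟩ := Finset.one_lt_card.1 h1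
    exact ⟨a, b, hab, by simpa using ha, by simpa using hb⟩
  have hcomm : swap a b * σ = σ * swap a b := by
    have : (swap a b).Disjoint σ := by
      intro x
      by_cases hx : x = a ∨ x = b
      · right; rcases hx with rfl | rfl; exacts [ha, hb]
      · left; push Not at hx; exact swap_apply_of_ne_of_ne hx.1 hx.2
    exact this.commute.eq
  set C := centralizer ({σ} : Set (Perm (Fin 8))) with hC
  let f : C →* ℤˣ := Perm.sign.comp C.subtype
  have hf : Function.Surjective f := by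
    intro u
    rcases Int.units_eq_one_or u with rfl | rfl
    · exact ⟨1, map_one f⟩
    · exact ⟨⟨swap a b, mem_centralizer_singleton_iff.2 hcomm⟩, Perm.sign_swap hab⟩
  have h2 : Nat.card f.ker * 2 = Nat.card C := by
    rw [← f.ker.card_mul_index, Subgroup.index_ker, MonoidHom.range_eq_top.2 hf, Subgroup.card_top,
      Nat.card_eq_fintype_card (α := ℤˣ)]
    rfl
  have h3 : f.ker.map C.subtype = C ⊓ alternatingGroup (Fin 8) := by
    ext g
    constructor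
    · rintro ⟨x, hx, rfl⟩
      exact ⟨x.2, hx⟩
    · rintro ⟨h4, h5⟩
      exact ⟨⟨g, h4⟩, h5, rfl⟩
  rw [← h3, ← h2, mul_comm, Nat.card_congr (f.ker.equivMapOfInjective _ (subtype_injective _)).toEquiv.symm]

/-- `|C_{2.A_8}(y)| = 2 |C_{A_8}(π y)|` for `y` of odd order -/
theorem card_cent_cover {C : Type*} [Group C] (K : Cover (Fin 8) C) {y : C} {n : ℕ} (hn : Odd n) (hy : y ^ n = 1) :
    Nat.card (centralizer ({y} : Set C)) =
      2 * Nat.card ↥(centralizer ({K.π y} : Set (Perm (Fin 8))) ⊓ alternatingGroup (Fin 8)) := by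
  let f : centralizer ({y} : Set C) →* Perm (Fin 8) := K.π.comp (centralizer ({y} : Set C)).subtype
  have hker : Nat.card f.ker = 2 := by
    have h1 : f.ker.map (centralizer ({y} : Set C)).subtype = K.π.ker := by
      ext g
      constructor
      · rintro ⟨x, hx, rfl⟩
        exact hx
      · intro hg
        refine ⟨⟨g, ?_⟩, hg, rfl⟩
        rw [mem_centralizer_singleton_iff]
        rcases (K.ker g).1 hg with rfl | rfl
        · rw [one_mul, mul_one]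
        · exact (K.z_comm y).symm
    rw [Nat.card_congr (f.ker.equivMapOfInjective _ (subtype_injective _)).toEquiv, h1,
      Nat.card_eq_two_iff' (1 : K.π.ker)]
    refine ⟨⟨K.z, K.π_z⟩, fun e => K.z_ne (congrArg Subtype.val e), ?_⟩
    rintro ⟨x, hx⟩ hx1
    rcases (K.ker x).1 hx with h1 | h1
    · exact absurd (Subtype.ext h1) hx1
    · exact Subtype.ext h1
  have hrange : f.range = centralizer ({K.π y} : Set (Perm (Fin 8))) ⊓ alternatingGroup (Fin 8) := by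
    ext σ
    constructor
    · rintro ⟨g, rfl⟩
      have hg := mem_centralizer_singleton_iff.1 g.2
      refine ⟨?_, K.mem_alternating _⟩
      refine mem_centralizer_singleton_iff.2 ?_
      show K.π g * K.π y = K.π y * K.π g
      rw [← map_mul, hg, map_mul]
    · rintro ⟨h1, h2⟩
      obtain ⟨g, rfl⟩ := K.exists_lift h2
      have h3 := K.commute_of_odd hn hy (mem_centralizer_singleton_iff.1 h1).symm
      exact ⟨⟨g, mem_centralizer_singleton_iff.2 h3.symm⟩, rfl⟩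
  rw [← hrange, ← f.ker.card_mul_index, Subgroup.index_ker, hker]

theorem card_cent_mul {G : Type*} [Group G] {t y : G} (ht : t * t = 1) (hty : t * y = y * t) {n : ℕ} (hn : Odd n)
    (hy : y ^ n = 1) : Nat.card (centralizer ({t * y} : Set G)) =
      Nat.card (centralizer ({⟨y, mem_centralizer_singleton_iff.2 hty.symm⟩} : Set (centralizer ({t} : Set G)))) := by
  have h1 : (centralizer ({⟨y, mem_centralizer_singleton_iff.2 hty.symm⟩} : Set (centralizer ({t} : Set G)))).map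
      (centralizer ({t} : Set G)).subtype = centralizer ({t * y} : Set G) := by
    ext g
    constructor
    · rintro ⟨x, hx, rfl⟩
      have hx1 := mem_centralizer_singleton_iff.1 x.2
      have hx2 := congrArg Subtype.val (mem_centralizer_singleton_iff.1 hx)
      have hx3 : (x : G) * y = y * x := hx2
      rw [mem_centralizer_singleton_iff]
      show (x : G) * (t * y) = t * y * x
      rw [← mul_assoc, hx1, mul_assoc, hx3, mul_assoc]
    · intro hg
      have hg1 : Commute g (t * y) := mem_centralizer_singleton_iff.1 hg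
      have hg2 : Commute g t := by
        have h2 : (t * y) ^ n = t := by
          have hc : Commute t y := hty
          rw [hc.mul_pow, hy, mul_one]
          obtain ⟨k, rfl⟩ := hn
          rw [pow_succ, pow_mul, pow_two, ht, one_pow, one_mul]
        rw [← h2]
        exact hg1.pow_right n
      have hg3 : Commute g y := by
        have h2 : t * (t * y) = y := by rw [← mul_assoc, ht, one_mul]
        rw [← h2]
        exact hg2.mul_right hg1
      refine ⟨⟨g, mem_centralizer_singleton_iff.2 hg2.eq⟩, ?_, rfl⟩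
      exact mem_centralizer_singleton_iff.2 (Subtype.ext hg3.eq)
  rw [← h1]
  exact (Nat.card_congr (Subgroup.equivMapOfInjective _ _ (subtype_injective _)).toEquiv).symm

variable {M : Type u} [Group M]

/-- the main reduction -/
theorem exists_cover (h : Spor.IsoMcL M) {t : M} (ht : orderOf t = 2) :
    ∃ K : Cover (Fin 8) (centralizer ({t} : Set M)), (K.z : M) = t := by
  obtain ⟨-, -, -, ⟨L⟩⟩ := Cfsg.Agent.TypeM.FactsMcL.facts h
  obtain ⟨h1, h2⟩ := MT.sq_of_orderOf ht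
  obtain ⟨L', rfl⟩ := L.exists_rebase h1 h2
  exact ⟨L'.K, L'.hz⟩

theorem card_cent_two (h : Spor.IsoMcL M) {t : M} (ht : orderOf t = 2) :
    Nat.card (centralizer ({t} : Set M)) = 40320 := by
  obtain ⟨K, hK⟩ := exists_cover h ht
  have hker : Nat.card K.π.ker = 2 := by
    rw [Nat.card_eq_two_iff' (1 : K.π.ker)]
    refine ⟨⟨K.z, K.π_z⟩, fun e => K.z_ne (congrArg Subtype.val e), ?_⟩
    rintro ⟨x, hx⟩ hx1
    rcases (K.ker x).1 hx with h1 | h1
    · exact absurd (Subtype.ext h1) hx1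
    · exact Subtype.ext h1
  rw [← K.π.ker.card_mul_index, Subgroup.index_ker, K.range_eq, hker, nat_card_alternatingGroup, Nat.card_eq_fintype_card,
    Fintype.card_fin]
  rfl

theorem orderOf_pi {C : Type*} [Group C] (K : Cover (Fin 8) C) {y : C} {p : ℕ} (hp : p.Prime) (hp2 : p ≠ 2)
    (hy : orderOf y = p) : orderOf (K.π y) = p := by
  have : Fact p.Prime := ⟨hp⟩
  have h1 : y ^ p = 1 := by rw [← hy, pow_orderOf_eq_one]
  refine orderOf_eq_prime (by rw [← map_pow, h1, map_one]) ?_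
  intro h2
  rcases (K.ker y).1 h2 with rfl | rfl
  · rw [orderOf_one] at hy
    exact hp.one_lt.ne hy
  · rw [K.orderOf_z] at hy
    exact hp2 hy.symm

theorem cycleType_of_prime {σ : Perm (Fin 8)} {p : ℕ} (hp : p.Prime) (hσ : orderOf σ = p) :
    ∃ k : ℕ, 1 ≤ k ∧ k * p ≤ 8 ∧ σ.cycleType = Multiset.replicate k p := by
  have : Fact p.Prime := ⟨hp⟩
  have h1 : σ ^ p = 1 := by rw [← hσ, pow_orderOf_eq_one]
  have hct := Perm.cycleType_of_pow_prime_eq_one h1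
  refine ⟨σ.cycleType.card, ?_, ?_, hct⟩
  · by_contra hcon
    have h2 : σ.cycleType.card = 0 := by omega
    rw [Perm.card_cycleType_eq_zero.1 h2, orderOf_one] at hσ
    exact hp.one_lt.ne hσ
  · have h3 : σ.cycleType.sum ≤ 8 := by
      rw [σ.sum_cycleType]
      exact (Finset.card_le_univ _).trans (by simp)
    rw [hct, Multiset.sum_replicate, smul_eq_mul] at h3
    exact h3

theorem card_rep {σ : Perm (Fin 8)} {k p : ℕ} (hk : σ.cycleType = Multiset.replicate k p) (h6 : k * p ≤ 6) (N : ℕ)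
    (h : (Fintype.card (Fin 8) - (Multiset.replicate k p).sum).factorial * (Multiset.replicate k p).prod *
        (∏ n ∈ (Multiset.replicate k p).toFinset, ((Multiset.replicate k p).count n).factorial) = 2 * N) :
    Nat.card ↥(centralizer ({σ} : Set (Perm (Fin 8))) ⊓ alternatingGroup (Fin 8)) = N := by
  have h1 := card_cent_alt (σ := σ) (by rw [hk]; simpa using h6)
  rw [Equiv.Perm.nat_card_centralizer, hk, h] at h1
  omega

theorem card_five {σ : Perm (Fin 8)} (hσ : orderOf σ = 5) :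
    Nat.card ↥(centralizer ({σ} : Set (Perm (Fin 8))) ⊓ alternatingGroup (Fin 8)) = 15 := by
  obtain ⟨k, hk1, hk2, hk⟩ := cycleType_of_prime (by norm_num) hσ
  obtain rfl : k = 1 := by omega
  exact card_rep hk (by norm_num) 15 (by decide)

theorem card_three {σ : Perm (Fin 8)} (hσ : orderOf σ = 3) :
    (σ.support.card = 3 ∧ Nat.card ↥(centralizer ({σ} : Set (Perm (Fin 8))) ⊓ alternatingGroup (Fin 8)) = 180) ∨
    (σ.support.card = 6 ∧ Nat.card ↥(centralizer ({σ} : Set (Perm (Fin 8))) ⊓ alternatingGroup (Fin 8)) = 18) := by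
  obtain ⟨k, hk1, hk2, hk⟩ := cycleType_of_prime (by norm_num) hσ
  have hk3 : k = 1 ∨ k = 2 := by omega
  rcases hk3 with rfl | rfl
  · left
    exact ⟨by rw [← σ.sum_cycleType, hk]; rfl, card_rep hk (by norm_num) 180 (by decide)⟩
  · right
    exact ⟨by rw [← σ.sum_cycleType, hk]; rfl, card_rep hk (by norm_num) 18 (by decide)⟩

theorem card_cent_ten (h : Spor.IsoMcL M) {t z : M} (ht : orderOf t = 2) (hz : orderOf z = 5) (hc : t * z = z * t) :
    Nat.card (centralizer ({t * z} : Set M)) = 30 := by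
  obtain ⟨K, hK⟩ := exists_cover h ht
  obtain ⟨h1, h2⟩ := MT.sq_of_orderOf ht
  have hz5 : z ^ 5 = 1 := by rw [← hz, pow_orderOf_eq_one]
  rw [card_cent_mul h1 hc (by decide : Odd 5) hz5, card_cent_cover K (by decide : Odd 5) (Subtype.ext hz5),
    card_five (orderOf_pi K (by norm_num) (by norm_num) (by rw [Subgroup.orderOf_mk]; exact hz))]

theorem cent_three (h : Spor.IsoMcL M) {t x : M} (ht : orderOf t = 2) (hx : orderOf x = 3) (htx : t * x = x * t) :
    Nat.card (centralizer ({t * x} : Set M)) = 360 ∨ (Nat.card (centralizer ({t * x} : Set M)) = 36 ∧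
      ∀ z : M, orderOf z = 5 → t * z = z * t → x * z ≠ z * x) := by
  obtain ⟨K, hK⟩ := exists_cover h ht
  obtain ⟨h1, h2⟩ := MT.sq_of_orderOf ht
  have hx3 : x ^ 3 = 1 := by rw [← hx, pow_orderOf_eq_one]
  have hpi := orderOf_pi K (y := ⟨x, mem_centralizer_singleton_iff.2 htx.symm⟩) (p := 3) (by norm_num) (by norm_num)
    (by rw [Subgroup.orderOf_mk]; exact hx)
  rw [card_cent_mul h1 htx (by decide : Odd 3) hx3, card_cent_cover K (by decide : Odd 3) (Subtype.ext hx3)]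
  rcases card_three hpi with ⟨h3, h4⟩ | ⟨h3, h4⟩
  · left
    rw [h4]
  · right
    refine ⟨by rw [h4], ?_⟩
    intro z hz htz hxz
    have hz5 := orderOf_pi K (y := ⟨z, mem_centralizer_singleton_iff.2 htz.symm⟩) (p := 5) (by norm_num) (by norm_num)
      (by rw [Subgroup.orderOf_mk]; exact hz)
    set ζ := K.π ⟨z, mem_centralizer_singleton_iff.2 htz.symm⟩ with hζ
    have hmem : ζ ∈ centralizer ({K.π ⟨x, mem_centralizer_singleton_iff.2 htx.symm⟩} : Set (Perm (Fin 8))) ⊓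
        alternatingGroup (Fin 8) := by
      refine ⟨mem_centralizer_singleton_iff.2 ?_, K.mem_alternating _⟩
      rw [hζ, ← map_mul, ← map_mul]
      exact congrArg K.π (Subtype.ext hxz.symm)
    have h5 := _root_.orderOf_dvd_natCard (⟨ζ, hmem⟩ :
      ↥(centralizer ({K.π ⟨x, mem_centralizer_singleton_iff.2 htx.symm⟩} : Set (Perm (Fin 8))) ⊓
        alternatingGroup (Fin 8)))
    rw [h4, Subgroup.orderOf_mk, hz5] at h5
    exact absurd h5 (by norm_num)

theorem card_cent_six (h : Spor.IsoMcL M) {t x z : M} (ht : orderOf t = 2) (hx : orderOf x = 3) (hz : orderOf z = 5)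
    (htx : t * x = x * t) (htz : t * z = z * t) (hxz : x * z = z * x) :
    Nat.card (centralizer ({t * x} : Set M)) = 360 := by
  rcases cent_three h ht hx htx with h1 | ⟨-, h1⟩
  · exact h1
  · exact absurd hxz (h1 z hz htz)

theorem not_sixteen (h : Spor.IsoMcL M) {t x : M} (ht : orderOf t = 2) (hx : orderOf x = 3) (htx : t * x = x * t) :
    ¬ 16 ∣ Nat.card (centralizer ({t * x} : Set M)) := by
  rcases cent_three h ht hx htx with h1 | ⟨h1, -⟩ <;> · rw [h1]; norm_num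

end Cfsg.Agent.H699.TI
end

-- part: H35/TI/McLCent
section
/-!
# S4819/S4820, `3.McL` [3MCL-E]: centralizers in the model `G1` (helper35)

`card_c`, `card_xc`, `nconj`, `card_a`, `card_x_of` (`card_x` from part D).
-/

set_option autoImplicit false
set_option maxRecDepth 100000

namespace Cfsg.Agent.H35.TI

open Subgroup Equiv Cfsg.Agent.SporadicA.PermTab Cfsg.Agent.H904.McLCent Cfsg.Agent.McLType.X275
  Cfsg.Agent.McLType.Gens Cfsg.Agent.McLType.Model Cfsg.Agent.H58.McLOdd Cfsg.Agent.H686.Odd.McL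
open Cfsg.Agent.H729.TI Cfsg.Agent.H699.TI
open scoped Pointwise commutatorElement

/-! ### general -/

section gen

variable {G : Type*} [Group G] [Finite G]

theorem exists_central {q : ℕ} [hq : Fact q.Prime] {K : Subgroup G} {n : ℕ} (hK : Nat.card K = q ^ n) (hn : n ≠ 0) :
    ∃ z ∈ K, orderOf z = q ∧ ∀ k ∈ K, k * z = z * k := by
  have hp : IsPGroup q K := IsPGroup.of_card hK
  have hnt : Nontrivial K := by
    rw [← Finite.one_lt_card_iff_nontrivial, hK]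
    exact Nat.one_lt_pow hn hq.out.one_lt
  have hc := hp.center_nontrivial
  have hdvd : q ∣ Nat.card (center K) := by
    obtain ⟨m, hm⟩ := (hp.to_subgroup (center K)).exists_card_eq
    rw [hm]
    refine dvd_pow_self q fun h0 => ?_
    rw [h0, pow_zero] at hm
    have := Finite.one_lt_card_iff_nontrivial.2 hc
    omega
  obtain ⟨z, hz⟩ := exists_prime_orderOf_dvd_card' q hdvd
  refine ⟨((z : K) : G), (z : K).2, ?_, fun k hk => ?_⟩
  · rw [Subgroup.orderOf_coe, Subgroup.orderOf_coe, hz]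
  · have h1 := mem_center_iff.1 z.2 ⟨k, hk⟩
    exact congrArg Subtype.val h1

theorem exists_sub {q n : ℕ} [hq : Fact q.Prime] {H : Subgroup G} (h : q ^ n ∣ Nat.card H) :
    ∃ K : Subgroup G, K ≤ H ∧ Nat.card K = q ^ n := by
  obtain ⟨K, hK⟩ := Sylow.exists_subgroup_card_pow_prime q h
  refine ⟨K.map H.subtype, ?_, ?_⟩
  · rintro _ ⟨k, -, rfl⟩
    exact k.2
  · rw [Subgroup.card_map_of_injective H.subtype_injective, hK]

theorem exists_elt {q : ℕ} [hq : Fact q.Prime] {H : Subgroup G} (h : q ∣ Nat.card H) : ∃ z ∈ H, orderOf z = q := by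
  obtain ⟨z, hz⟩ := exists_prime_orderOf_dvd_card' q h
  exact ⟨z, z.2, by rw [Subgroup.orderOf_coe, hz]⟩

omit [Finite G] in
theorem order_dvd {H : Subgroup G} {z : G} (hz : z ∈ H) : orderOf z ∣ Nat.card H := by
  have := _root_.orderOf_dvd_natCard (⟨z, hz⟩ : H)
  rwa [Subgroup.orderOf_mk] at this

end gen

instance fact2 : Fact (Nat.Prime 2) := ⟨Nat.prime_two⟩
instance fact3 : Fact (Nat.Prime 3) := ⟨Nat.prime_three⟩
instance fact5 : Fact (Nat.Prime 5) := ⟨Nat.prime_five⟩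
instance fact7 : Fact (Nat.Prime 7) := ⟨by norm_num⟩
instance fact11 : Fact (Nat.Prime 11) := ⟨by norm_num⟩

theorem cS : (_root_.Cfsg.Agent.H58.McLOdd.chk (cj s6 x5) (pw x5 2 ++ (pw y5 1 ++ pw (cm x5 y5) 1)) &&
    _root_.Cfsg.Agent.H58.McLOdd.chk (cj s6 y5) (pw x5 2 ++ pw y5 4)) = true := by
  rewrite [_root_.Cfsg.Agent.H58.McLOdd.chk_base5]; decide +kernel

theorem sa : s * a * s⁻¹ = a ^ 2 * (b ^ 1 * c ^ 1) := by
  have h := cS
  simp only [Bool.and_eq_true] at h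
  have h1 := eq_of_chk h.1
  rw [wd_cj, wd_app, wd_app, wd_pw, wd_pw, wd_pw, ← c_eq] at h1
  exact h1

theorem sb : s * b * s⁻¹ = a ^ 2 * b ^ 4 := by
  have h := cS
  simp only [Bool.and_eq_true] at h
  have h1 := eq_of_chk h.2
  rw [wd_cj, wd_app, wd_pw, wd_pw] at h1
  exact h1

/-- the Sylow 5-subgroup -/
noncomputable def P5 : Subgroup G1 := _root_.Subgroup.closure {a, b}

theorem a_mem : a ∈ P5 := _root_.Subgroup.subset_closure (by simp)
theorem b_mem : b ∈ P5 := _root_.Subgroup.subset_closure (by simp)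
theorem c_mem : c ∈ P5 := by
  rw [c, commutatorElement_def]
  exact mul_mem (mul_mem (mul_mem a_mem b_mem) (inv_mem a_mem)) (inv_mem b_mem)

theorem card_P5 : Nat.card P5 = 125 := card_ab

theorem s_norm : zpowers s ≤ normalizer (P5 : Set G1) := by
  have h1 : P5.map (MulAut.conj s).toMonoidHom ≤ P5 := by
    unfold P5
    rw [MonoidHom.map_closure, closure_le]
    rintro _ ⟨x, (rfl | rfl), rfl⟩
    · change s * a * s⁻¹ ∈ P5
      rw [sa]
      exact mul_mem (pow_mem a_mem _) (mul_mem (pow_mem b_mem _) (pow_mem c_mem _))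
    · change s * b * s⁻¹ ∈ P5
      rw [sb]
      exact mul_mem (pow_mem a_mem _) (pow_mem b_mem _)
  have h2 : P5.map (MulAut.conj s).toMonoidHom = P5 := by
    apply Subgroup.eq_of_le_of_card_ge h1
    rw [Subgroup.card_map_of_injective (MulAut.conj s).injective]
  rw [zpowers_le, mem_normalizer_iff]
  intro g
  constructor
  · intro hg
    have h3 : (MulAut.conj s).toMonoidHom g ∈ P5.map (MulAut.conj s).toMonoidHom := ⟨g, hg, rfl⟩
    rw [h2] at h3
    exact h3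
  · intro hg
    have h3 : s * g * s⁻¹ ∈ P5.map (MulAut.conj s).toMonoidHom := by rw [h2]; exact hg
    obtain ⟨g', hg', h4⟩ := h3
    have h5 : g' = g := (MulAut.conj s).injective h4
    rwa [← h5]

theorem order_s3 : orderOf (s ^ 3) = 2 := by
  rw [orderOf_pow_of_dvd (by norm_num) (by rw [order_s]; norm_num), order_s]

theorem s4_eq : (s ^ 4) ^ 3 = 1 := by
  rw [← pow_mul, show 4 * 3 = 6 * 2 by norm_num, pow_mul, s_pow, one_pow]

theorem s4_ne : s ^ 4 ≠ 1 := by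
  intro h
  have := orderOf_dvd_of_pow_eq_one h
  rw [order_s] at this
  norm_num at this

theorem order_s4 : orderOf (s ^ 4) = 3 := orderOf_eq_prime s4_eq s4_ne

theorem s4c : s ^ 4 * c = c * s ^ 4 := ((show Commute s c from sc).pow_left 4).eq

/-! ### `|C(c)| = 750` -/

/-- **`|C(c)| = 750`** -/
theorem card_c : Nat.card (centralizer ({c} : Set G1)) = 750 := by
  rcases Cfsg.Agent.H686.Odd.McL.card_c with h | h
  · exact h
  exfalso
  obtain ⟨K, hK, hK4⟩ := exists_sub (q := 2) (n := 2) (H := centralizer ({c} : Set G1)) (by rw [h]; norm_num)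
  obtain ⟨z, hz, hz2, hzc⟩ := exists_central hK4 (by norm_num)
  have hzcc : z * c = c * z := mem_centralizer_singleton_iff.1 (hK hz)
  have h1 := card_cent_ten isoMcL_G1 hz2 order_c hzcc
  have h2 : K ≤ centralizer ({z * c} : Set G1) := by
    intro k hk
    rw [mem_centralizer_singleton_iff]
    have e1 := hzc k hk
    have e2 : k * c = c * k := mem_centralizer_singleton_iff.1 (hK hk)
    rw [← mul_assoc, e1, mul_assoc, e2, mul_assoc]
  have h3 := Subgroup.card_dvd_of_le h2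
  rw [h1, hK4] at h3
  norm_num at h3

theorem cent_c : zpowers s ⊔ P5 = centralizer ({c} : Set G1) := by
  have h1 : zpowers s ⊔ P5 ≤ centralizer ({c} : Set G1) := sup_le (by rw [zpowers_le]; exact s_mem) closure_le_c
  apply Subgroup.eq_of_le_of_card_ge h1
  rw [card_c]
  have h2 : 6 ∣ Nat.card (zpowers s ⊔ P5 : Subgroup G1) := by
    rw [← order_s, ← Nat.card_zpowers]
    exact Subgroup.card_dvd_of_le le_sup_left
  have h3 : 125 ∣ Nat.card (zpowers s ⊔ P5 : Subgroup G1) := by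
    rw [← card_P5]
    exact Subgroup.card_dvd_of_le le_sup_right
  have h4 : 6 * 125 ∣ Nat.card (zpowers s ⊔ P5 : Subgroup G1) := (by norm_num : Nat.Coprime 6 125).mul_dvd_of_dvd_of_dvd h2 h3
  exact Nat.le_of_dvd Nat.card_pos h4

theorem exists_decomp {g : G1} (hg : g * c = c * g) : ∃ k : ℤ, ∃ u ∈ P5, g = s ^ k * u := by
  have h1 : g ∈ (zpowers s ⊔ P5 : Subgroup G1) := by rw [cent_c]; exact mem_centralizer_singleton_iff.2 hg
  have h2 : g ∈ ((zpowers s : Subgroup G1) : Set G1) * (P5 : Set G1) := by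
    rw [← coe_mul_of_left_le_normalizer_right _ _ s_norm]
    exact h1
  obtain ⟨x, ⟨k, rfl⟩, u, hu, rfl⟩ := h2
  exact ⟨k, u, hu, rfl⟩

theorem conj_s {k : ℤ} {u : G1} (hu : u ∈ P5) : s ^ k * u * (s ^ k)⁻¹ ∈ P5 :=
  (mem_normalizer_iff.1 (s_norm (zpow_mem (mem_zpowers s) k)) u).1 hu

theorem cent_le_norm : centralizer ({c} : Set G1) ≤ normalizer (P5 : Set G1) := by
  rw [← cent_c]
  exact sup_le s_norm le_normalizer

/-- 5-elements commuting with `c` are in `P5` -/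
theorem mem_P5 {g : G1} (hg : g * c = c * g) (h : g ^ 125 = 1) : g ∈ P5 := by
  have hgc : g ∈ centralizer ({c} : Set G1) := mem_centralizer_singleton_iff.2 hg
  have hn : (P5.subgroupOf (centralizer ({c} : Set G1))).Normal := normal_subgroupOf_of_le_normalizer cent_le_norm
  have hi : (P5.subgroupOf (centralizer ({c} : Set G1))).index = 6 := by
    have h1 := (P5.subgroupOf (centralizer ({c} : Set G1))).card_mul_index
    rw [Nat.card_congr (subgroupOfEquivOfLe (H := P5) closure_le_c).toEquiv, card_P5, card_c] at h1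
    omega
  have h1 := pow_index_mem (P5.subgroupOf (centralizer ({c} : Set G1))) (⟨g, hgc⟩ : centralizer ({c} : Set G1))
  rw [hi, mem_subgroupOf] at h1
  have h2 : g ^ 6 ∈ P5 := h1
  have h3 : (g ^ 6) ^ 21 = g := by
    rw [← pow_mul, show 6 * 21 = 125 + 1 by norm_num, pow_succ, h, one_mul]
  rw [← h3]
  exact pow_mem h2 21

/-- the noncentral elements of `P5` -/
theorem card_cent_noncentral {g : G1} (hg : g ∈ P5) (hg' : g ∉ zpowers c) :
    Nat.card (centralizer ({g} : Set G1)) = Nat.card (centralizer ({a} : Set G1)) := by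
  obtain ⟨u, hu⟩ := isConj_iff.1 (conj_a hg hg')
  rw [← hu, card_cent_conj]

theorem order_a : orderOf a = 5 := by
  refine orderOf_eq_prime a_pow fun h => c_ne ?_
  rw [c, h, commutatorElement_def]
  group

/-! ### `|C(a)| = 25` -/

theorem a_notMem : a ∉ zpowers c := by
  rintro ⟨k, hk⟩
  apply c_ne
  have h1 : a * b = b * a := by
    rw [← hk]
    exact ((show Commute c b from cb).zpow_left k).eq
  rw [c, commutatorElement_def, h1]
  group

theorem dvd_card_a : 25 ∣ Nat.card (centralizer ({a} : Set G1)) := by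
  have h1 : zpowers a ⊔ zpowers c ≤ centralizer ({a} : Set G1) := by
    refine sup_le ?_ ?_
    · rw [zpowers_le, mem_centralizer_singleton_iff]
    · rw [zpowers_le, mem_centralizer_singleton_iff]
      exact ca
  have h2 : zpowers a ⊔ zpowers c ≤ P5 := sup_le (by rw [zpowers_le]; exact a_mem) (by rw [zpowers_le]; exact c_mem)
  obtain ⟨k, hk, hk'⟩ := (Nat.dvd_prime_pow Nat.prime_five).1 (show Nat.card (zpowers a ⊔ zpowers c : Subgroup G1) ∣ 5 ^ 3 by
    have := Subgroup.card_dvd_of_le h2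
    rw [card_P5] at this
    exact this)
  have h3 : 2 ≤ k := by
    by_contra h
    have h4 : Nat.card (zpowers a ⊔ zpowers c : Subgroup G1) ≤ 5 := by
      rw [hk']
      calc 5 ^ k ≤ 5 ^ 1 := Nat.pow_le_pow_right (by norm_num) (by omega)
        _ = 5 := by norm_num
    have h5 : zpowers c = zpowers a ⊔ zpowers c := by
      apply Subgroup.eq_of_le_of_card_ge le_sup_right
      rw [Nat.card_zpowers, order_c]
      exact h4
    apply a_notMem
    rw [h5]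
    exact (le_sup_left : zpowers a ≤ zpowers a ⊔ zpowers c) (mem_zpowers a)
  have h6 := Subgroup.card_dvd_of_le h1
  rw [hk'] at h6
  exact (pow_dvd_pow 5 h3).trans h6

/-- **`|C(a)| = 25`** -/
theorem card_a : Nat.card (centralizer ({a} : Set G1)) = 25 := by
  obtain ⟨k, hk⟩ := exists_fix (i := 1) (j := 0) (by norm_num) (by norm_num) (by norm_num)
  rw [pow_one, pow_zero, mul_one] at hk
  have h1 := type_b order_a hk
  obtain ⟨m, hm⟩ := dvd_card_a
  have h2 : 0 < Nat.card (centralizer ({a} : Set G1)) := Nat.card_pos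
  have h3 : m = 1 ∨ m = 2 := by omega
  rcases h3 with rfl | rfl
  · exact hm
  exfalso
  obtain ⟨t, ht, ht2⟩ := exists_elt (q := 2) (H := centralizer ({a} : Set G1)) (by rw [hm]; norm_num)
  have hta : t * a = a * t := mem_centralizer_singleton_iff.1 ht
  have h4 := card_cent_ten isoMcL_G1 ht2 order_a hta
  have h5 : a ∈ zpowers (t * a) := by
    refine ⟨(6 : ℕ), ?_⟩
    show (t * a) ^ ((6 : ℕ) : ℤ) = a
    have ht6 : t ^ 6 = 1 := by
      have : t ^ 2 = 1 := by rw [← ht2]; exact pow_orderOf_eq_one t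
      rw [show 6 = 2 * 3 by norm_num, pow_mul, this, one_pow]
    rw [zpow_natCast, (show Commute t a from hta).mul_pow, ht6, one_mul, show 6 = 5 + 1 by norm_num, pow_succ, a_pow, one_mul]
  have h6 := Subgroup.card_dvd_of_le (cent_le_of_mem h5)
  rw [h4, hm] at h6
  norm_num at h6

/-! ### `|C(xc)| = 30` -/

theorem xc_pow (n : ℕ) : (s ^ 4 * c) ^ n = (s ^ 4) ^ n * c ^ n := (show Commute (s ^ 4) c from s4c).mul_pow n

theorem xc_six : (s ^ 4 * c) ^ 6 = c := by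
  rw [xc_pow, show 6 = 3 * 2 by norm_num, pow_mul (s ^ 4), s4_eq, one_pow, one_mul, show 3 * 2 = 5 + 1 by norm_num, pow_succ,
    c_pow, one_mul]

theorem xc_ten : (s ^ 4 * c) ^ 10 = s ^ 4 := by
  rw [xc_pow, show 10 = 5 * 2 by norm_num, pow_mul c, c_pow, one_pow, mul_one, show 5 * 2 = 3 * 3 + 1 by norm_num, pow_succ,
    pow_mul (s ^ 4), s4_eq, one_pow, one_mul]

theorem cent_xc_le_c : centralizer ({s ^ 4 * c} : Set G1) ≤ centralizer ({c} : Set G1) :=
  cent_le_of_mem ⟨(6 : ℕ), (zpow_natCast _ 6).trans xc_six⟩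

theorem cent_xc_le_x : centralizer ({s ^ 4 * c} : Set G1) ≤ centralizer ({s ^ 4} : Set G1) :=
  cent_le_of_mem ⟨(10 : ℕ), (zpow_natCast _ 10).trans xc_ten⟩

/-- no subgroup of order 25 -/
theorem not_25 {K : Subgroup G1} (hK : Nat.card K = 25) (h1 : K ≤ centralizer ({s ^ 4} : Set G1))
    (h2 : K ≤ centralizer ({c} : Set G1)) : False := by
  obtain ⟨y, hy, hy'⟩ : ∃ y ∈ K, y ∉ zpowers c := by
    by_contra hcon
    push Not at hcon
    have h3 : K ≤ zpowers c := fun y hy => hcon y hy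
    have h4 := Subgroup.card_le_of_le h3
    rw [hK, Nat.card_zpowers, order_c] at h4
    norm_num at h4
  have hyc : y * c = c * y := mem_centralizer_singleton_iff.1 (h2 hy)
  have hy125 : y ^ 125 = 1 := by
    have h3 := order_dvd hy
    rw [hK] at h3
    exact orderOf_dvd_iff_pow_eq_one.1 (h3.trans (by norm_num))
  have h3 := card_cent_noncentral (mem_P5 hyc hy125) hy'
  rw [card_a] at h3
  have h4 : s ^ 4 ∈ centralizer ({y} : Set G1) :=
    mem_centralizer_singleton_iff.2 (mem_centralizer_singleton_iff.1 (h1 hy)).symm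
  have h5 := order_dvd h4
  rw [h3, order_s4] at h5
  norm_num at h5

/-- **`|C(xc)| = 30`** -/
theorem card_xc : Nat.card (centralizer ({s ^ 4 * c} : Set G1)) = 30 := by
  have h1 := Subgroup.card_dvd_of_le cent_xc_le_c
  rw [card_c] at h1
  have h2 : s ∈ centralizer ({s ^ 4 * c} : Set G1) := by
    rw [mem_centralizer_singleton_iff, ← mul_assoc, ← pow_succ', pow_succ, mul_assoc, sc, mul_assoc]
  have h3 : c ∈ centralizer ({s ^ 4 * c} : Set G1) := by
    rw [mem_centralizer_singleton_iff, ← mul_assoc, ← s4c]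
  have h4 := order_dvd h2
  have h5 := order_dvd h3
  rw [order_s] at h4
  rw [order_c] at h5
  have h6 : 6 * 5 ∣ Nat.card (centralizer ({s ^ 4 * c} : Set G1)) := (by norm_num : Nat.Coprime 6 5).mul_dvd_of_dvd_of_dvd h4 h5
  have h7 : ¬ 5 ^ 2 ∣ Nat.card (centralizer ({s ^ 4 * c} : Set G1)) := by
    intro h
    obtain ⟨K, hK, hK2⟩ := exists_sub h
    exact not_25 hK2 (hK.trans cent_xc_le_x) (hK.trans cent_xc_le_c)
  obtain ⟨m, hm⟩ := h6
  rw [hm] at h1 h7 ⊢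
  have h8 : m ∣ 25 := by
    have : 6 * 5 * m ∣ 6 * 5 * 25 := by rwa [show 6 * 5 * 25 = 750 by norm_num]
    exact Nat.dvd_of_mul_dvd_mul_left (by norm_num) this
  have h9 : m ≤ 25 := Nat.le_of_dvd (by norm_num) h8
  interval_cases m <;> first | rfl | (exfalso; revert h8; decide) | (exfalso; apply h7; norm_num)

/-! ### the element `xc` is not real -/

/-- **`xc` is not conjugate to its inverse** -/
theorem nconj : ¬ IsConj (s ^ 4 * c) (s ^ 4 * c)⁻¹ := by
  intro h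
  obtain ⟨y, hy⟩ := isConj_iff.1 h
  have hyp : ∀ n : ℕ, y * (s ^ 4 * c) ^ n * y⁻¹ = ((s ^ 4 * c) ^ n)⁻¹ := by
    intro n
    rw [← conj_pow, hy, inv_pow]
  have hyc := hyp 6
  rw [xc_six] at hyc
  have hyx := hyp 10
  rw [xc_ten] at hyx
  obtain ⟨g, hg⟩ : ∃ g, g = wd h14 * wd h14 := ⟨_, rfl⟩
  have hgs : g * s * g⁻¹ = s := by
    rw [hg]
    calc wd h14 * wd h14 * s * (wd h14 * wd h14)⁻¹ = wd h14 * (wd h14 * s * (wd h14)⁻¹) * (wd h14)⁻¹ := by group
      _ = wd h14 * s⁻¹ * (wd h14)⁻¹ := by rw [hs]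
      _ = (wd h14 * s * (wd h14)⁻¹)⁻¹ := by group
      _ = s := by rw [hs, inv_inv]
  have hgc : g * c * g⁻¹ = c⁻¹ := by
    rw [hg]
    calc wd h14 * wd h14 * c * (wd h14 * wd h14)⁻¹ = wd h14 * (wd h14 * c * (wd h14)⁻¹) * (wd h14)⁻¹ := by group
      _ = wd h14 * c ^ 2 * (wd h14)⁻¹ := by rw [hc]
      _ = (wd h14 * c * (wd h14)⁻¹) ^ 2 := by rw [conj_pow]
      _ = c⁻¹ := by
        rw [hc, ← pow_mul, eq_inv_iff_mul_eq_one, ← pow_succ]
        exact c_pow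
  have hgc' : g⁻¹ * c * g = c⁻¹ := by
    have h1 : c = g⁻¹ * c⁻¹ * g := by rw [← hgc]; group
    have h2 : c⁻¹ = g⁻¹ * c * g := by
      nth_rewrite 1 [h1]
      group
    exact h2.symm
  have hgx' : g⁻¹ * s ^ 4 * g = s ^ 4 := by
    have h1 : g * s ^ 4 * g⁻¹ = s ^ 4 := by rw [← conj_pow, hgs]
    have h2 : s ^ 4 = g⁻¹ * s ^ 4 * g := by
      nth_rewrite 2 [← h1]
      group
    exact h2.symm
  obtain ⟨u, hu⟩ : ∃ u, u = y * g⁻¹ := ⟨_, rfl⟩
  have huc : u * c = c * u := by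
    have h1 : u * c * u⁻¹ = c := by
      rw [hu]
      calc y * g⁻¹ * c * (y * g⁻¹)⁻¹ = y * (g⁻¹ * c * g) * y⁻¹ := by group
        _ = (y * c * y⁻¹)⁻¹ := by rw [hgc']; group
        _ = c := by rw [hyc, inv_inv]
    exact mul_inv_eq_iff_eq_mul.1 h1
  have hux : u * s ^ 4 * u⁻¹ = (s ^ 4)⁻¹ := by
    rw [hu]
    calc y * g⁻¹ * s ^ 4 * (y * g⁻¹)⁻¹ = y * (g⁻¹ * s ^ 4 * g) * y⁻¹ := by group
      _ = (s ^ 4)⁻¹ := by rw [hgx', hyx]
  obtain ⟨k, v, hv, rfl⟩ := exists_decomp huc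
  have h1 : s ^ k * v * s ^ 4 * (s ^ k * v)⁻¹ * (s ^ 4)⁻¹ ∈ P5 := by
    have e1 : s ^ k * v * s ^ 4 * (s ^ k * v)⁻¹ * (s ^ 4)⁻¹ =
        s ^ k * (v * (s ^ (4 : ℤ) * v⁻¹ * (s ^ (4 : ℤ))⁻¹)) * (s ^ k)⁻¹ := by
      have e2 : s ^ 4 * (s ^ k)⁻¹ = (s ^ k)⁻¹ * s ^ 4 := by
        rw [← zpow_neg, ← zpow_natCast, ← zpow_add, ← zpow_add, add_comm]
      have e3 : (s ^ (4 : ℤ) : G1) = s ^ 4 := by exact_mod_cast zpow_natCast s 4
      rw [e3]
      calc s ^ k * v * s ^ 4 * (s ^ k * v)⁻¹ * (s ^ 4)⁻¹ = s ^ k * v * s ^ 4 * v⁻¹ * ((s ^ k)⁻¹ * (s ^ 4)⁻¹) := by group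
        _ = s ^ k * v * s ^ 4 * v⁻¹ * (s ^ 4 * s ^ k)⁻¹ := by rw [mul_inv_rev]
        _ = s ^ k * v * s ^ 4 * v⁻¹ * (s ^ k * s ^ 4)⁻¹ := by
          have e4 : s ^ 4 * s ^ k = s ^ k * s ^ 4 := by
            rw [← zpow_natCast, ← zpow_add, ← zpow_add, add_comm]
          rw [e4]
        _ = _ := by rw [mul_inv_rev]; group
    rw [e1]
    exact conj_s (mul_mem hv (conj_s (inv_mem hv)))
  rw [hux] at h1
  have h2 := order_dvd h1
  rw [card_P5] at h2
  have h3 : (s ^ 4)⁻¹ * (s ^ 4)⁻¹ = s ^ 4 := by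
    have h4 : s ^ 4 * s ^ 4 * s ^ 4 = 1 := by
      have := s4_eq
      rwa [pow_succ, pow_two] at this
    rw [← mul_inv_rev, inv_eq_iff_mul_eq_one]
    exact h4
  rw [h3, order_s4] at h2
  norm_num at h2

/-! ### `|C(x)| = 29160` -/

/-- `25 ∤ |C(x)|` -/
theorem not_25x : ¬ 5 ^ 2 ∣ Nat.card (centralizer ({s ^ 4} : Set G1)) := by
  intro h
  obtain ⟨K, hK, hK2⟩ := exists_sub h
  obtain ⟨z, hz, hz5, hzc⟩ := exists_central hK2 (by norm_num)
  have hKz : K ≤ centralizer ({z} : Set G1) := fun k hk => mem_centralizer_singleton_iff.2 (hzc k hk)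
  have hxz : s ^ 4 ∈ centralizer ({z} : Set G1) :=
    mem_centralizer_singleton_iff.2 (mem_centralizer_singleton_iff.1 (hK hz)).symm
  rcases five_cases hz5 with h1 | ⟨g, hg⟩
  · have h2 := order_dvd hxz
    rw [order_s4] at h2
    have h3 := Subgroup.card_dvd_of_le hKz
    rw [hK2] at h3
    have h4 : 3 * 5 ^ 2 ∣ Nat.card (centralizer ({z} : Set G1)) := (by norm_num : Nat.Coprime 3 (5 ^ 2)).mul_dvd_of_dvd_of_dvd h2 h3
    have h5 := Nat.le_of_dvd Nat.card_pos h4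
    (clear * - h1 h5; omega)
  · have hgz1 : g * z * g⁻¹ ≠ 1 := by
      intro h1
      have h2 : z = 1 := by
        have : z = g⁻¹ * (g * z * g⁻¹) * g := by group
        rw [this, h1]
        group
      rw [h2, orderOf_one] at hz5
      norm_num at hz5
    have hcz : c ∈ zpowers (g * z * g⁻¹) := mem_zpowers_of_prime Nat.prime_five order_c hgz1 hg
    have hx' : g * s ^ 4 * g⁻¹ ∈ centralizer ({c} : Set G1) := by
      apply cent_le_of_mem hcz
      rw [mem_centralizer_singleton_iff]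
      have h1 : s ^ 4 * z = z * s ^ 4 := mem_centralizer_singleton_iff.1 hxz
      calc g * s ^ 4 * g⁻¹ * (g * z * g⁻¹) = g * (s ^ 4 * z) * g⁻¹ := by group
        _ = g * (z * s ^ 4) * g⁻¹ := by rw [h1]
        _ = g * z * g⁻¹ * (g * s ^ 4 * g⁻¹) := by group
    have ho : orderOf (g * s ^ 4 * g⁻¹) = 3 := by
      rw [← order_s4]; exact (MulAut.conj g).orderOf_eq (s ^ 4)
    have hs4 : s ^ 4 ∈ centralizer ({c} : Set G1) := pow_mem s_mem 4
    obtain ⟨u, hu⟩ := Cfsg.Agent.H1.RealTool.exists_conj_mem_zpowers (G := centralizer ({c} : Set G1)) Nat.prime_three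
      (by rw [card_c]; norm_num) (x := ⟨s ^ 4, hs4⟩) (a := ⟨g * s ^ 4 * g⁻¹, hx'⟩)
      (by rw [Subgroup.orderOf_mk, order_s4]) (by rw [Subgroup.orderOf_mk, ho])
    have hu' : (u : G1) * (g * s ^ 4 * g⁻¹) * (u : G1)⁻¹ ∈ zpowers (s ^ 4) := by
      obtain ⟨k, hk⟩ := mem_zpowers_iff.1 hu
      exact mem_zpowers_iff.2 ⟨k, congrArg Subtype.val hk⟩
    have huc : (u : G1) * c = c * u := mem_centralizer_singleton_iff.1 u.2
    obtain ⟨v, hv⟩ : ∃ v, v = (u : G1) * g := ⟨_, rfl⟩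
    have hvx : v * s ^ 4 * v⁻¹ ∈ zpowers (s ^ 4) := by
      rw [hv]
      have : (u : G1) * g * s ^ 4 * ((u : G1) * g)⁻¹ = (u : G1) * (g * s ^ 4 * g⁻¹) * (u : G1)⁻¹ := by group
      rw [this]
      exact hu'
    have hvz : v * z * v⁻¹ ∈ zpowers c := by
      rw [hv]
      have h1 : (u : G1) * g * z * ((u : G1) * g)⁻¹ = (u : G1) * (g * z * g⁻¹) * (u : G1)⁻¹ := by group
      obtain ⟨k, hk⟩ := mem_zpowers_iff.1 hg
      rw [h1, ← hk]
      have h2 : (u : G1) * c ^ k = c ^ k * u := ((show Commute (u : G1) c from huc).zpow_right k).eq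
      rw [h2, mul_inv_cancel_right]
      exact zpow_mem (mem_zpowers c) k
    have hne : ∀ {w : G1}, w ≠ 1 → v * w * v⁻¹ ≠ 1 := by
      intro w hw h1
      apply hw
      have : w = v⁻¹ * (v * w * v⁻¹) * v := by group
      rw [this, h1]
      group
    have hz1 : z ≠ 1 := by
      rintro rfl
      rw [orderOf_one] at hz5
      norm_num at hz5
    have m1 : s ^ 4 ∈ zpowers (v * s ^ 4 * v⁻¹) := mem_zpowers_of_prime Nat.prime_three order_s4 (hne s4_ne) hvx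
    have m2 : c ∈ zpowers (v * z * v⁻¹) := mem_zpowers_of_prime Nat.prime_five order_c (hne hz1) hvz
    have hcomm : ∀ {w k : G1}, k * w = w * k → v * k * v⁻¹ ∈ centralizer ({v * w * v⁻¹} : Set G1) := by
      intro w k h1
      rw [mem_centralizer_singleton_iff]
      calc v * k * v⁻¹ * (v * w * v⁻¹) = v * (k * w) * v⁻¹ := by group
        _ = v * (w * k) * v⁻¹ := by rw [h1]
        _ = v * w * v⁻¹ * (v * k * v⁻¹) := by group
    refine not_25 (K := K.map (MulAut.conj v).toMonoidHom) ?_ ?_ ?_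
    · rw [Subgroup.card_map_of_injective (MulAut.conj v).injective, hK2]
      norm_num
    · rintro _ ⟨k, hk, rfl⟩
      exact cent_le_of_mem m1 (hcomm (mem_centralizer_singleton_iff.1 (hK hk)))
    · rintro _ ⟨k, hk, rfl⟩
      exact cent_le_of_mem m2 (hcomm (hzc k hk))

/-- **`|C(x)| = 29160`** from a subgroup of order 729 -/
theorem card_x_of (hD : ∃ S : Subgroup G1, Nat.card S = 729 ∧ S ≤ centralizer ({s ^ 4} : Set G1)) :
    Nat.card (centralizer ({s ^ 4} : Set G1)) = 29160 := by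
  obtain ⟨S, hS, hS'⟩ := hD
  have d3 := Subgroup.card_dvd_of_le hS'
  rw [hS] at d3
  -- 360
  have d360 : 360 ∣ Nat.card (centralizer ({s ^ 4} : Set G1)) := by
    have h1 := card_cent_six isoMcL_G1 order_s3 order_s4 order_c (by rw [← pow_add, ← pow_add])
      ((show Commute s c from sc).pow_left 3).eq s4c
    rw [← h1]
    refine Subgroup.card_dvd_of_le (cent_le_of_mem ⟨(4 : ℕ), ?_⟩)
    show (s ^ 3 * s ^ 4) ^ ((4 : ℕ) : ℤ) = s ^ 4
    have h7 : s ^ 3 * s ^ 4 = s := by rw [← pow_add, show 3 + 4 = 6 + 1 by norm_num, pow_succ, s_pow, one_mul]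
    rw [zpow_natCast, h7]
  have hsame : ∀ {y : G1}, y ∈ centralizer ({s ^ 4} : Set G1) → 3 ∣ Nat.card (centralizer ({y} : Set G1)) := by
    intro y hy
    have h1 : s ^ 4 ∈ centralizer ({y} : Set G1) :=
      mem_centralizer_singleton_iff.2 (mem_centralizer_singleton_iff.1 hy).symm
    have h2 := order_dvd h1
    rwa [order_s4] at h2
  have n7 : ¬ 7 ∣ Nat.card (centralizer ({s ^ 4} : Set G1)) := by
    intro h
    obtain ⟨y, hy, hy7⟩ := exists_elt h
    have h1 := (hsame hy).trans (seven_dvd hy7)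
    norm_num at h1
  have n11 : ¬ 11 ∣ Nat.card (centralizer ({s ^ 4} : Set G1)) := by
    intro h
    obtain ⟨y, hy, hy7⟩ := exists_elt h
    have h1 := hsame hy
    rw [eleven_card hy7] at h1
    norm_num at h1
  have n16 : ¬ 2 ^ 4 ∣ Nat.card (centralizer ({s ^ 4} : Set G1)) := by
    intro h
    obtain ⟨K, hK, hK2⟩ := exists_sub h
    obtain ⟨z, hz, hz2, hzc⟩ := exists_central hK2 (by norm_num)
    have hzx : z * s ^ 4 = s ^ 4 * z := mem_centralizer_singleton_iff.1 (hK hz)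
    refine not_sixteen isoMcL_G1 hz2 order_s4 hzx ?_
    have h1 : K ≤ centralizer ({z * s ^ 4} : Set G1) := by
      intro k hk
      rw [mem_centralizer_singleton_iff]
      have e1 := hzc k hk
      have e2 : k * s ^ 4 = s ^ 4 * k := mem_centralizer_singleton_iff.1 (hK hk)
      rw [← mul_assoc, e1, mul_assoc, e2, mul_assoc]
    have h2 := Subgroup.card_dvd_of_le h1
    rwa [hK2] at h2
  have n25 := not_25x
  have hdvd := (centralizer ({s ^ 4} : Set G1)).card_subgroup_dvd_card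
  rw [card_G1] at hdvd
  generalize Nat.card (centralizer ({s ^ 4} : Set G1)) = N at *
  have d : 29160 ∣ N := by
    have h1 : 40 ∣ N := (by norm_num : 40 ∣ 360).trans d360
    have h2 : 729 * 40 ∣ N := (by norm_num : Nat.Coprime 729 40).mul_dvd_of_dvd_of_dvd d3 h1
    exact h2
  obtain ⟨k, rfl⟩ := d
  have hk : k ∣ 30800 := by
    have : 29160 * k ∣ 29160 * 30800 := by rwa [show 29160 * 30800 = 898128000 by norm_num]
    exact Nat.dvd_of_mul_dvd_mul_left (by norm_num) this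
  have hk1 : k = 1 := by
    by_contra hk1
    obtain ⟨r, hr, hrk⟩ := Nat.exists_prime_and_dvd hk1
    have hr2 : r ∣ 2 ^ 4 * (5 ^ 2 * (7 * 11)) := by
      rw [show 2 ^ 4 * (5 ^ 2 * (7 * 11)) = 30800 by norm_num]
      exact hrk.trans hk
    rcases (Nat.Prime.dvd_mul hr).1 hr2 with h | h
    · have := (Nat.prime_dvd_prime_iff_eq hr Nat.prime_two).1 (hr.dvd_of_dvd_pow h)
      subst this
      apply n16
      exact (by norm_num : 2 ^ 4 ∣ 29160 * 2).trans (mul_dvd_mul_left _ hrk)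
    rcases (Nat.Prime.dvd_mul hr).1 h with h | h
    · have := (Nat.prime_dvd_prime_iff_eq hr Nat.prime_five).1 (hr.dvd_of_dvd_pow h)
      subst this
      apply n25
      exact (by norm_num : 5 ^ 2 ∣ 29160 * 5).trans (mul_dvd_mul_left _ hrk)
    rcases (Nat.Prime.dvd_mul hr).1 h with h | h
    · have := (Nat.prime_dvd_prime_iff_eq hr (by norm_num)).1 h
      subst this
      exact n7 (hrk.mul_left _)
    · have := (Nat.prime_dvd_prime_iff_eq hr (by norm_num)).1 h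
      subst this
      exact n11 (hrk.mul_left _)
  rw [hk1]

end Cfsg.Agent.H35.TI
end
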